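import Groth.Agent.Lib.Helper19.QStk.Aff

/-!
# Small covering families and affineness of torsors, for a general precoverage (helper19)
-/

set_option autoImplicit false
set_option backward.isDefEq.respectTransparency false
set_option backward.isDefEq.respectTransparency.types false

universe u

open CategoryTheory CategoryTheory.Limits MonoidalCategory CartesianMonoidalCategory MonObj GrpObj
  AlgebraicGeometry Opposite
open AlgSt

namespace Groth.Agent.Helper19.QStkK

open Groth.Agent.Helper19.QStk

variable {K : Precoverage Scheme.{u}}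

theorem exists_small_subfamily [Precoverage.Small.{u} K] {Y : Scheme.{u}} {R : Presieve Y}
    (hR : R ∈ K Y) :
    ∃ (I : Type u) (U : I → Scheme.{u}) (g : ∀ i, U i ⟶ Y), (∀ i, R (g i)) ∧
      Presieve.ofArrows U g ∈ K Y := by
  rw [Precoverage.mem_iff_exists_zeroHypercover] at hR
  obtain ⟨E, rfl⟩ := hR
  obtain ⟨I, k, hk⟩ := Precoverage.ZeroHypercover.Small.exists_restrictIndex_mem.{u} E
  exact ⟨I, fun i => E.X (k i), fun i => E.f (k i), fun i => ⟨k i⟩, hk⟩

variable {S : Scheme.{u}}

theorem exists_small_family [Precoverage.Small.{u} K] [K.IsStableUnderComposition]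
    [K.IsStableUnderBaseChange] [K.HasIsos] {T : Over S} {R : Sieve T}
    (hR : R ∈ QuotSh.J K S T) :
    ∃ (I : Type u) (V : I → Over S) (f : ∀ i, V i ⟶ T), (∀ i, R (f i)) ∧
      Presieve.ofArrows (fun i => (V i).left) (fun i => (f i).left) ∈ K T.left ∧
      Sieve.ofArrows V f ∈ QuotSh.J K S T := by
  rw [GrothendieckTopology.mem_over_iff] at hR
  obtain ⟨R₀, hR₀, hle⟩ := Precoverage.mem_toGrothendieck_iff_of_isStableUnderComposition.1 hR
  obtain ⟨I, U, g, hg, hcov⟩ := exists_small_subfamily hR₀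
  refine ⟨I, fun y => Over.mk (g y ≫ T.hom), fun y => Over.homMk (g y) rfl, fun y => ?_, hcov, ?_⟩
  · have := hle _ _ (hg y)
    rw [Sieve.overEquiv_iff] at this
    exact this
  · rw [GrothendieckTopology.mem_over_iff]
    refine (K.toGrothendieck).superset_covering ?_ (Precoverage.generate_mem_toGrothendieck hcov)
    rintro Z c ⟨Y, a, b, ⟨y⟩, rfl⟩
    rw [Sieve.overEquiv_iff]
    have h0 : (Sieve.ofArrows (fun y => Over.mk (g y ≫ T.hom))
        (fun y => (Over.homMk (g y) rfl : Over.mk (g y ≫ T.hom) ⟶ T)))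
        ((Over.homMk a rfl : Over.mk (a ≫ g y ≫ T.hom) ⟶ Over.mk (g y ≫ T.hom)) ≫
          (Over.homMk (g y) rfl : Over.mk (g y ≫ T.hom) ⟶ T)) :=
      (Sieve.ofArrows _ _).downward_closed (Sieve.ofArrows_mk _ _ y) _
    convert h0 using 2
    · exact Category.assoc _ _ _
    · first
      | rfl
      | (apply Over.OverMorphism.ext; simp)

variable {G : Over S} [GrpObj G] {X : Over S} {aX : AlgGrp.Action G X}

theorem isAffineHom_π [Precoverage.Small.{u} K] (hK : K ≤ Scheme.fpqcPrecoverage)
    [IsAffineHom G.hom] (A : QuotObj K G aX) : IsAffineHom A.π.left := by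
  obtain ⟨R, hR, hsec⟩ := A.loc
  obtain ⟨I, U, g, hg, hcov⟩ := exists_small_subfamily hR
  let 𝒰 : Scheme.Cover Scheme.fpqcPrecoverage A.base.left :=
    { I₀ := I
      X := U
      f := g
      mem₀ := hK _ hcov }
  refine Groth.Agent.S12496.result (@IsAffineHom) Groth.Agent.Helper21.AffDesc.affine A.π.left 𝒰 ?_
  intro y
  obtain ⟨s, hs⟩ := hsec (g y) (hg y)
  exact isAffineHom_pullback_of_section A (g y) s hs

end Groth.Agent.Helper19.QStkK
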