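import Groth.Agent.Lib.Helper19.QStk.Cart

/-!
# Gluing morphisms along covering sieves of a subcanonical topology on `Over S` (helper19)

General-topology versions of `QStk.Colim` and `QStk.Cart`.
-/

set_option autoImplicit false

universe u

open CategoryTheory CategoryTheory.Limits MonoidalCategory CartesianMonoidalCategory AlgebraicGeometry Opposite

namespace Groth.Agent.Helper19.QStkK

open Groth.Agent.Helper19.QStk

variable {S : Scheme.{u}} (J : GrothendieckTopology (Over S)) [J.Subcanonical]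

theorem hom_ext_of_sieve {Y Z : Over S} (R : Sieve Y) (hR : R ∈ J Y) (h h' : Y ⟶ Z)
    (H : ∀ ⦃W : Over S⦄ (w : W ⟶ Y), R w → w ≫ h = w ≫ h') : h = h' := by
  have hs : Presieve.IsSheafFor (yoneda.obj Z) R.arrows :=
    (GrothendieckTopology.Subcanonical.isSheaf_of_isRepresentable (J := J) (yoneda.obj Z)) R hR
  exact hs.isSeparatedFor.ext (fun W w hw => H w hw)

theorem glue_hom {Y Z : Over S} (R : Sieve Y) (hR : R ∈ J Y)
    (e : ∀ ⦃W : Over S⦄ (w : W ⟶ Y), R w → (W ⟶ Z))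
    (he : ∀ ⦃W W' : Over S⦄ (g : W' ⟶ W) (w : W ⟶ Y) (hw : R w),
      e (g ≫ w) (R.downward_closed hw g) = g ≫ e w hw) :
    ∃ h : Y ⟶ Z, ∀ ⦃W : Over S⦄ (w : W ⟶ Y) (hw : R w), w ≫ h = e w hw := by
  have hs : Presieve.IsSheafFor (yoneda.obj Z) R.arrows :=
    (GrothendieckTopology.Subcanonical.isSheaf_of_isRepresentable (J := J) (yoneda.obj Z)) R hR
  let x : Presieve.FamilyOfElements (yoneda.obj Z) R.arrows := fun W w hw => e w hw
  have hx : x.Compatible := by
    rw [Presieve.compatible_iff_sieveCompatible]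
    intro W W' w g hw
    exact he g w hw
  exact ⟨hs.amalgamate x hx, fun W w hw => hs.valid_glue hx w hw⟩

variable {T Q : Over S} {R : Sieve T} {q : Q ⟶ T} (F : CartFam R q)

include F in
theorem joint_epi (hR : R ∈ J T) {Z : Over S} (h h' : Q ⟶ Z)
    (H : ∀ b hb, F.ι b hb ≫ h = F.ι b hb ≫ h') : h = h' := by
  refine hom_ext_of_sieve J (R.pullback q) (J.pullback_stable q hR) h h' ?_
  intro W w hw
  have hw' : R (w ≫ q) := hw
  have e : w = (F.sq (Over.mk (w ≫ q)) hw').lift w (𝟙 W) (by simp) ≫ F.ι _ hw' :=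
    ((F.sq (Over.mk (w ≫ q)) hw').lift_fst _ _ _).symm
  rw [e, Category.assoc, Category.assoc, H]

include F in
theorem desc (hR : R ∈ J T) {Z : Over S} (ε : ∀ b hb, F.obj b hb ⟶ Z)
    (hε : ∀ (b b' : Over T) (hb : R b.hom) (hb' : R b'.hom) (m : b' ⟶ b) (τ : F.obj b' hb' ⟶ F.obj b hb),
      τ ≫ F.ι b hb = F.ι b' hb' → τ ≫ F.p b hb = F.p b' hb' ≫ m.left → τ ≫ ε b hb = ε b' hb') :
    ∃ h : Q ⟶ Z, ∀ b hb, F.ι b hb ≫ h = ε b hb := by
  have wd : ∀ {W : Over S} (w : W ⟶ Q) (hw : R (w ≫ q)) (b : Over T) (hb : R b.hom)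
      (t : W ⟶ b.left) (ht : w ≫ q = t ≫ b.hom),
      (F.sq b hb).lift w t ht ≫ ε b hb =
        (F.sq (Over.mk (w ≫ q)) hw).lift w (𝟙 W) (by simp) ≫ ε (Over.mk (w ≫ q)) hw := by
    intro W w hw b hb t ht
    let m : Over.mk (w ≫ q) ⟶ b := Over.homMk t ht.symm
    have hc : F.ι (Over.mk (w ≫ q)) hw ≫ q = (F.p (Over.mk (w ≫ q)) hw ≫ t) ≫ b.hom := by
      rw [(F.sq (Over.mk (w ≫ q)) hw).w, Category.assoc, ← ht]
      rfl
    let τ : F.obj (Over.mk (w ≫ q)) hw ⟶ F.obj b hb :=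
      (F.sq b hb).lift (F.ι (Over.mk (w ≫ q)) hw) (F.p (Over.mk (w ≫ q)) hw ≫ t) hc
    have h1 : τ ≫ F.ι b hb = F.ι (Over.mk (w ≫ q)) hw := (F.sq b hb).lift_fst _ _ _
    have h2 : τ ≫ F.p b hb = F.p (Over.mk (w ≫ q)) hw ≫ m.left := (F.sq b hb).lift_snd _ _ _
    rw [← hε b (Over.mk (w ≫ q)) hb hw m τ h1 h2, ← Category.assoc]
    congr 1
    apply (F.sq b hb).hom_ext
    · rw [Category.assoc, h1, IsPullback.lift_fst, IsPullback.lift_fst]
    · rw [Category.assoc, h2, ← Category.assoc, IsPullback.lift_snd, IsPullback.lift_snd]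
      simp [m]
  obtain ⟨h, hh⟩ := glue_hom J (Z := Z) (R.pullback q) (J.pullback_stable q hR)
    (fun W w hw => (F.sq (Over.mk (w ≫ q)) hw).lift w (𝟙 W) (by simp) ≫ ε (Over.mk (w ≫ q)) hw) (by
      intro W W' g w hw
      have hw' : R (w ≫ q) := hw
      have hgw : R ((g ≫ w) ≫ q) := by
        rw [Category.assoc]; exact R.downward_closed hw' g
      have := wd (g ≫ w) hgw (Over.mk (w ≫ q)) hw' g (Category.assoc _ _ _)
      change (F.sq (Over.mk ((g ≫ w) ≫ q)) hgw).lift (g ≫ w) (𝟙 W') _ ≫ ε (Over.mk ((g ≫ w) ≫ q)) hgw = _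
      rw [← this, ← Category.assoc]
      congr 1
      apply (F.sq (Over.mk (w ≫ q)) hw').hom_ext
      · rw [IsPullback.lift_fst, Category.assoc, IsPullback.lift_fst]
      · rw [IsPullback.lift_snd, Category.assoc, IsPullback.lift_snd]
        simp)
  refine ⟨h, fun b hb => ?_⟩
  have hm : R (F.ι b hb ≫ q) := F.mem b hb
  rw [hh (F.ι b hb) hm, ← wd (F.ι b hb) hm b hb (F.p b hb) (F.sq b hb).w]
  have : (F.sq b hb).lift (F.ι b hb) (F.p b hb) (F.sq b hb).w = 𝟙 _ := by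
    apply (F.sq b hb).hom_ext
    · rw [IsPullback.lift_fst, Category.id_comp]
    · rw [IsPullback.lift_snd, Category.id_comp]
  rw [this, Category.id_comp]

theorem cart_of_local {G : Over S} {T P : Over S} {R : Sieve T} (hR : R ∈ J T) {q : P ⟶ T}
    (F : CartFam R q) (act : G ⊗ P ⟶ P) (hact : act ≫ q = snd G P ≫ q)
    (actb : ∀ b hb, G ⊗ F.obj b hb ⟶ F.obj b hb)
    (hcart : ∀ b hb, IsPullback (actb b hb) (snd G _) (F.p b hb) (F.p b hb))
    (hcomp : ∀ b hb, (G ◁ F.ι b hb) ≫ act = actb b hb ≫ F.ι b hb) :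
    IsPullback act (snd G P) q q := by
  apply isPullback_of_existsUnique _ _ _ _ hact
  intro W u v huv
  let FW := CartFam.canonical R (u ≫ q)
  have hub : ∀ b hb, ∃ ub : FW.obj b hb ⟶ F.obj b hb,
      ub ≫ F.ι b hb = FW.ι b hb ≫ u ∧ ub ≫ F.p b hb = FW.p b hb := fun b hb =>
    ⟨(F.sq b hb).lift (FW.ι b hb ≫ u) (FW.p b hb) (by rw [Category.assoc, (FW.sq b hb).w]),
      (F.sq b hb).lift_fst _ _ _, (F.sq b hb).lift_snd _ _ _⟩
  have hvb : ∀ b hb, ∃ vb : FW.obj b hb ⟶ F.obj b hb,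
      vb ≫ F.ι b hb = FW.ι b hb ≫ v ∧ vb ≫ F.p b hb = FW.p b hb := fun b hb =>
    ⟨(F.sq b hb).lift (FW.ι b hb ≫ v) (FW.p b hb) (by
        rw [Category.assoc, ← huv, (FW.sq b hb).w]),
      (F.sq b hb).lift_fst _ _ _, (F.sq b hb).lift_snd _ _ _⟩
  choose ub hub1 hub2 using hub
  choose vb hvb1 hvb2 using hvb
  have hgb : ∀ b hb, ∃ gb : FW.obj b hb ⟶ G ⊗ F.obj b hb,
      gb ≫ actb b hb = ub b hb ∧ gb ≫ snd G _ = vb b hb := fun b hb =>
    ⟨(hcart b hb).lift (ub b hb) (vb b hb) (by rw [hub2, hvb2]),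
      (hcart b hb).lift_fst _ _ _, (hcart b hb).lift_snd _ _ _⟩
  choose gb hgb1 hgb2 using hgb
  have htrans : ∀ (b b' : Over T) (hb : R b.hom) (hb' : R b'.hom) (m : b' ⟶ b)
      (τ : FW.obj b' hb' ⟶ FW.obj b hb), τ ≫ FW.ι b hb = FW.ι b' hb' →
      τ ≫ FW.p b hb = FW.p b' hb' ≫ m.left →
      τ ≫ gb b hb ≫ fst G _ = gb b' hb' ≫ fst G _ := by
    intro b b' hb hb' m τ h1 h2
    let τP : F.obj b' hb' ⟶ F.obj b hb :=
      (F.sq b hb).lift (F.ι b' hb') (F.p b' hb' ≫ m.left) (by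
        rw [(F.sq b' hb').w, Category.assoc, Over.w m])
    have t1 : τP ≫ F.ι b hb = F.ι b' hb' := (F.sq b hb).lift_fst _ _ _
    have t2 : τP ≫ F.p b hb = F.p b' hb' ≫ m.left := (F.sq b hb).lift_snd _ _ _
    have nat : (G ◁ τP) ≫ actb b hb = actb b' hb' ≫ τP := by
      apply (F.sq b hb).hom_ext
      · rw [Category.assoc, ← hcomp, ← MonoidalCategory.whiskerLeft_comp_assoc, t1, hcomp,
          Category.assoc, t1]
      · have w' := (hcart b' hb').w
        calc ((G ◁ τP) ≫ actb b hb) ≫ F.p b hb = (G ◁ τP) ≫ snd G _ ≫ F.p b hb := by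
              rw [Category.assoc, (hcart b hb).w]
          _ = snd G _ ≫ τP ≫ F.p b hb := by rw [whiskerLeft_snd_assoc]
          _ = (snd G _ ≫ F.p b' hb') ≫ m.left := by rw [t2, Category.assoc]
          _ = (actb b' hb' ≫ F.p b' hb') ≫ m.left := by rw [w']
          _ = (actb b' hb' ≫ τP) ≫ F.p b hb := by rw [Category.assoc, Category.assoc, t2]
    have e1 : τ ≫ ub b hb = ub b' hb' ≫ τP := by
      apply (F.sq b hb).hom_ext
      · rw [Category.assoc, hub1, ← Category.assoc, h1, Category.assoc, t1, hub1]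
      · rw [Category.assoc, hub2, h2, Category.assoc, t2, ← Category.assoc, hub2]
    have e2 : τ ≫ vb b hb = vb b' hb' ≫ τP := by
      apply (F.sq b hb).hom_ext
      · rw [Category.assoc, hvb1, ← Category.assoc, h1, Category.assoc, t1, hvb1]
      · rw [Category.assoc, hvb2, h2, Category.assoc, t2, ← Category.assoc, hvb2]
    have e3 : τ ≫ gb b hb = gb b' hb' ≫ (G ◁ τP) := by
      apply (hcart b hb).hom_ext
      · rw [Category.assoc, hgb1, Category.assoc, nat, ← Category.assoc, hgb1, e1]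
      · rw [Category.assoc, hgb2, Category.assoc, whiskerLeft_snd, ← Category.assoc, hgb2, e2]
    rw [← Category.assoc, e3, Category.assoc, whiskerLeft_fst]
  obtain ⟨γ, hγ⟩ := desc J FW hR (Z := G) (fun b hb => gb b hb ≫ fst G _)
    (fun b b' hb hb' m τ h1 h2 => htrans b b' hb hb' m τ h1 h2)
  have hloc : ∀ b hb, FW.ι b hb ≫ lift γ v = gb b hb ≫ (G ◁ F.ι b hb) := by
    intro b hb
    apply CartesianMonoidalCategory.hom_ext
    · rw [Category.assoc, lift_fst, hγ, Category.assoc, whiskerLeft_fst]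
    · rw [Category.assoc, lift_snd, Category.assoc, whiskerLeft_snd, ← Category.assoc, hgb2, hvb1]
  refine ⟨lift γ v, ⟨?_, lift_snd _ _⟩, ?_⟩
  · apply joint_epi J FW hR
    intro b hb
    rw [← Category.assoc, hloc, Category.assoc, hcomp, ← Category.assoc, hgb1, hub1]
  · rintro l ⟨hl1, hl2⟩
    apply CartesianMonoidalCategory.hom_ext
    · rw [lift_fst]
      apply joint_epi J FW hR
      intro b hb
      rw [hγ]
      have hk : lift (FW.ι b hb ≫ l ≫ fst G P) (vb b hb) ≫ (G ◁ F.ι b hb) = FW.ι b hb ≫ l := by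
        apply CartesianMonoidalCategory.hom_ext
        · rw [Category.assoc, whiskerLeft_fst, lift_fst, Category.assoc]
        · rw [Category.assoc, whiskerLeft_snd, lift_snd_assoc, hvb1, Category.assoc, hl2]
      have e : lift (FW.ι b hb ≫ l ≫ fst G P) (vb b hb) = gb b hb := by
        apply (hcart b hb).hom_ext
        · rw [hgb1]
          apply (F.sq b hb).hom_ext
          · rw [Category.assoc, ← hcomp, ← Category.assoc, hk, Category.assoc, hl1, hub1]
          · rw [Category.assoc, (hcart b hb).w, lift_snd_assoc, hvb2, hub2]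
        · rw [lift_snd, hgb2]
      rw [← e, lift_fst]
    · rw [lift_snd, hl2]

end Groth.Agent.Helper19.QStkK
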