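import Groth.Agent.Lib.Helper19.QStkK.Colim
import Groth.Agent.Lib.Helper19.QStk.Uniq

/-!
# Morphisms of `[X/G]` glue along covering sieves of a subcanonical topology (helper19)
-/

set_option autoImplicit false
set_option backward.isDefEq.respectTransparency false
set_option backward.isDefEq.respectTransparency.types false

universe u

open CategoryTheory CategoryTheory.Limits MonoidalCategory CartesianMonoidalCategory MonObj GrpObj
  AlgebraicGeometry Opposite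
open AlgSt FibCat Stk

namespace Groth.Agent.Helper19.QStkK

open Groth.Agent.Helper19.StkElem Groth.Agent.Helper19.FibLib Groth.Agent.Helper19.QStk

variable {S : Scheme.{u}} {G : Over S} [GrpObj G] {X : Over S} {aX : AlgGrp.Action G X}
variable {K : Precoverage Scheme.{u}}
variable (J : GrothendieckTopology (Over S)) [J.Subcanonical]
variable {T : Over S} {R : Sieve T} (Ψ : sieveCat R ⥤ᵇ QuotSt K G aX)

theorem exists_top (hR : R ∈ J T) {x x' : QuotObj K G aX} (c : Cocone Ψ x) (c' : Cocone Ψ x') :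
    ∃ h : x.P ⟶ x'.P, ∀ a, (c.lam a).top ≫ h = (c'.lam a).top := by
  obtain ⟨h, hh⟩ := desc J (cartFam Ψ c) hR (Z := x'.P) (fun b hb => (c'.lam ⟨b, hb⟩).top) (by
    intro b b' hb hb' m τ h1 h2
    let m' : (⟨b', hb'⟩ : (sieveCat R).obj) ⟶ ⟨b, hb⟩ := ObjectProperty.homMk m
    have e : τ = (Ψ.map m').top := by
      apply ((cartFam Ψ c).sq b hb).hom_ext
      · rw [h1]; exact (map_top_ι Ψ c m').symm
      · rw [h2]; exact (map_top_p Ψ m').symm
    rw [e]
    exact map_top_ι Ψ c' m')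
  exact ⟨h, fun a => hh a.obj a.property⟩

theorem uniq (hR : R ∈ J T) : Uniq R (QuotSt K G aX) := by
  intro Ψ x x' c c'
  obtain ⟨h, hh⟩ := exists_top J Ψ hR c c'
  obtain ⟨k, hk⟩ := exists_top J Ψ hR c' c
  have hhk : h ≫ k = 𝟙 _ := joint_epi J (cartFam Ψ c) hR _ _ (fun b hb => by
    change (c.lam ⟨b, hb⟩).top ≫ h ≫ k = (c.lam ⟨b, hb⟩).top ≫ 𝟙 _
    rw [← Category.assoc, hh, hk, Category.comp_id])
  have hkh : k ≫ h = 𝟙 _ := joint_epi J (cartFam Ψ c') hR _ _ (fun b hb => by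
    change (c'.lam ⟨b, hb⟩).top ≫ k ≫ h = (c'.lam ⟨b, hb⟩).top ≫ 𝟙 _
    rw [← Category.assoc, hk, hh, Category.comp_id])
  haveI : IsIso h := ⟨⟨k, hhk, hkh⟩⟩
  have hbase : x.base = x'.base := c.base.trans c'.base.symm
  have hb2 : ∀ a, (c.lam a).base ≫ eqToHom hbase = (c'.lam a).base := by
    intro a
    rw [lam_base Ψ c a, lam_base Ψ c' a]
    simp
  have hπ : h ≫ x'.π = x.π ≫ eqToHom hbase := by
    apply joint_epi J (cartFam Ψ c) hR
    intro b hb
    change (c.lam ⟨b, hb⟩).top ≫ h ≫ x'.π = (c.lam ⟨b, hb⟩).top ≫ x.π ≫ eqToHom hbase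
    rw [← Category.assoc, hh, (c'.lam ⟨b, hb⟩).cart.w, (c.lam ⟨b, hb⟩).cart.w_assoc, hb2]
  have heqv : x.act.act ≫ h = (G ◁ h) ≫ x'.act.act := by
    apply joint_epi J ((cartFam Ψ c).whisker G) hR
    intro b hb
    change (G ◁ (c.lam ⟨b, hb⟩).top) ≫ x.act.act ≫ h = (G ◁ (c.lam ⟨b, hb⟩).top) ≫ (G ◁ h) ≫ x'.act.act
    rw [← Category.assoc, ← (c.lam ⟨b, hb⟩).eqv, Category.assoc, hh,
      ← MonoidalCategory.whiskerLeft_comp_assoc, hh, (c'.lam ⟨b, hb⟩).eqv]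
  have hφ : h ≫ x'.φ = x.φ := by
    apply joint_epi J (cartFam Ψ c) hR
    intro b hb
    change (c.lam ⟨b, hb⟩).top ≫ h ≫ x'.φ = (c.lam ⟨b, hb⟩).top ≫ x.φ
    rw [← Category.assoc, hh, (c'.lam ⟨b, hb⟩).wφ, (c.lam ⟨b, hb⟩).wφ]
  let H : x ⟶ x' :=
    { base := eqToHom hbase
      top := h
      eqv := heqv
      cart := IsPullback.of_horiz_isIso ⟨hπ⟩
      wφ := hφ }
  have hH : (QuotSt K G aX).p.IsHomLift (𝟙 T) H :=
    isHomLift_of_base (𝟙 T) H c.base c'.base (by simp [H])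
  refine ⟨H, ⟨hH, fun a => ?_⟩, ?_⟩
  · apply QuotObj.hom_ext
    · exact hb2 a
    · exact hh a
  · rintro H' ⟨hH', hc'⟩
    apply QuotObj.hom_ext
    · obtain ⟨hA, hB, e⟩ := base_eq_of_isHomLift (𝟙 T) H'
      rw [e]
      simp [H]
    · apply joint_epi J (cartFam Ψ c) hR
      intro b hb
      change (c.lam ⟨b, hb⟩).top ≫ H'.top = (c.lam ⟨b, hb⟩).top ≫ h
      rw [hh]
      exact congrArg QuotObj.Hom.top (hc' ⟨b, hb⟩)

end Groth.Agent.Helper19.QStkK
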