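import Groth.Agent.Lib.Helper19.QStk.Eff2
import Groth.Agent.Lib.Helper19.QStkK.Uniq
import Groth.Agent.Lib.Helper19.QStkK.Aff

/-!
# Effectivity of descent data of torsors along small families, general precoverage (helper19)
-/

set_option autoImplicit false
set_option backward.isDefEq.respectTransparency false
set_option backward.isDefEq.respectTransparency.types false

universe u

open CategoryTheory CategoryTheory.Limits MonoidalCategory CartesianMonoidalCategory MonObj GrpObj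
  AlgebraicGeometry Opposite
open AlgSt FibCat Stk

namespace Groth.Agent.Helper19.QStkK

open Groth.Agent.Helper19.StkElem Groth.Agent.Helper21.DescA Groth.Agent.Helper19.QStk

variable {S : Scheme.{u}} {G : Over S} [GrpObj G] {X : Over S} {aX : AlgGrp.Action G X}
variable {K : Precoverage Scheme.{u}}

theorem loc_cover (A : QuotObj K G aX) {W : Over S} (hA : A.base = W) :
    ∃ F : Precoverage.ZeroHypercover.{max (u + 1) u} K W.left,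
      ∀ k : F.I₀, ∃ s : F.X k ⟶ A.P.left, s ≫ (A.π ≫ eqToHom hA).left = F.f k := by
  subst hA
  obtain ⟨R, hR, hsec⟩ := A.loc
  rw [Precoverage.mem_iff_exists_zeroHypercover] at hR
  obtain ⟨F, rfl⟩ := hR
  refine ⟨F, fun k => ?_⟩
  obtain ⟨s, hs⟩ := hsec (F.f k) ⟨k⟩
  have hs' : s ≫ A.π.left = F.f k := hs
  exact ⟨s, by simpa using hs'⟩

variable {T : Over S} {I : Type u} {V : I → Over S} (f : ∀ i, V i ⟶ T)
variable (Ψ : sieveCat (Sieve.ofArrows V f) ⥤ᵇ QuotSt K G aX)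
variable (c₀ : Cone (dd f Ψ))

include c₀ in
theorem eff_of_cone [(QuotSh.J K S).Subcanonical] [K.IsStableUnderComposition]
    (hR : Sieve.ofArrows V f ∈ QuotSh.J K S T)
    (hcov : Presieve.ofArrows (fun i => (V i).left) (fun i => (f i).left) ∈ K T.left) :
    ∃ x : (QuotSt K G aX).obj, Nonempty (Cocone Ψ x) := by
  -- the action
  obtain ⟨act, hact⟩ : ∃ act : G ⊗ PO f Ψ c₀ ⟶ PO f Ψ c₀,
      ∀ a, (G ◁ ιO f Ψ c₀ a) ≫ act = (Ψ.obj a).act.act ≫ ιO f Ψ c₀ a := by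
    obtain ⟨h, hh⟩ := desc (QuotSh.J K S) ((F₀ f Ψ c₀).whisker G) hR (Z := PO f Ψ c₀)
      (fun b hb => (Ψ.obj ⟨b, hb⟩).act.act ≫ ιO f Ψ c₀ ⟨b, hb⟩) (by
        intro b b' hb hb' m τ h1 h2
        have e : τ = G ◁ (Ψ.map (ObjectProperty.homMk m :
            (⟨b', hb'⟩ : (sieveCat (Sieve.ofArrows V f)).obj) ⟶ ⟨b, hb⟩)).top := by
          apply (((F₀ f Ψ c₀).whisker G).sq b hb).hom_ext
          · rw [h1]
            change G ◁ ιO f Ψ c₀ ⟨b', hb'⟩ = (G ◁ _) ≫ (G ◁ ιO f Ψ c₀ ⟨b, hb⟩)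
            rw [← MonoidalCategory.whiskerLeft_comp, ιO_nat]
          · rw [h2]
            change (snd G _ ≫ pO f Ψ ⟨b', hb'⟩) ≫ m.left = (G ◁ _) ≫ snd G _ ≫ pO f Ψ ⟨b, hb⟩
            rw [whiskerLeft_snd_assoc, pO_nat, Category.assoc]
            rfl
        rw [e, ← Category.assoc, ← (Ψ.map _).eqv, Category.assoc, ιO_nat])
    exact ⟨h, fun a => hh a.obj a.property⟩
  -- the map to X
  obtain ⟨φ, hφ⟩ : ∃ φ : PO f Ψ c₀ ⟶ X, ∀ a, ιO f Ψ c₀ a ≫ φ = (Ψ.obj a).φ := by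
    obtain ⟨h, hh⟩ := desc (QuotSh.J K S) (F₀ f Ψ c₀) hR (Z := X) (fun b hb => (Ψ.obj ⟨b, hb⟩).φ) (by
      intro b b' hb hb' m τ h1 h2
      rw [tau_eq f Ψ c₀ b b' hb hb' m τ h1 h2]
      exact (Ψ.map _).wφ)
    exact ⟨h, fun a => hh a.obj a.property⟩
  have h_one : (η[G] ▷ PO f Ψ c₀) ≫ act = (λ_ (PO f Ψ c₀)).hom := by
    apply joint_epi (QuotSh.J K S) ((F₀ f Ψ c₀).whisker (𝟙_ (Over S))) hR
    intro b hb
    change (𝟙_ (Over S) ◁ ιO f Ψ c₀ ⟨b, hb⟩) ≫ (η[G] ▷ PO f Ψ c₀) ≫ act =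
      (𝟙_ (Over S) ◁ ιO f Ψ c₀ ⟨b, hb⟩) ≫ (λ_ (PO f Ψ c₀)).hom
    rw [whisker_exchange_assoc, hact, ← Category.assoc, (Ψ.obj ⟨b, hb⟩).act.one_act,
      leftUnitor_naturality]
  have h_mul : (μ[G] ▷ PO f Ψ c₀) ≫ act = (α_ G G (PO f Ψ c₀)).hom ≫ (G ◁ act) ≫ act := by
    apply joint_epi (QuotSh.J K S) ((F₀ f Ψ c₀).whisker (G ⊗ G)) hR
    intro b hb
    change ((G ⊗ G) ◁ ιO f Ψ c₀ ⟨b, hb⟩) ≫ (μ[G] ▷ PO f Ψ c₀) ≫ act =
      ((G ⊗ G) ◁ ιO f Ψ c₀ ⟨b, hb⟩) ≫ (α_ G G (PO f Ψ c₀)).hom ≫ (G ◁ act) ≫ act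
    rw [whisker_exchange_assoc, hact, ← Category.assoc, (Ψ.obj ⟨b, hb⟩).act.mul_act,
      associator_naturality_right_assoc, ← MonoidalCategory.whiskerLeft_comp_assoc, hact,
      MonoidalCategory.whiskerLeft_comp, Category.assoc, Category.assoc, Category.assoc, hact]
  have h_π : act ≫ πO f Ψ c₀ = snd G (PO f Ψ c₀) ≫ πO f Ψ c₀ := by
    apply joint_epi (QuotSh.J K S) ((F₀ f Ψ c₀).whisker G) hR
    intro b hb
    change (G ◁ ιO f Ψ c₀ ⟨b, hb⟩) ≫ act ≫ πO f Ψ c₀ =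
      (G ◁ ιO f Ψ c₀ ⟨b, hb⟩) ≫ snd G (PO f Ψ c₀) ≫ πO f Ψ c₀
    rw [← Category.assoc, hact, Category.assoc, (sqO f Ψ c₀ ⟨b, hb⟩).w, whiskerLeft_snd_assoc,
      (sqO f Ψ c₀ ⟨b, hb⟩).w, ← Category.assoc, ← Category.assoc]
    congr 1
    exact (cart_norm (Ψ.obj ⟨b, hb⟩) (Ψ.w_obj ⟨b, hb⟩)).w
  have h_cart : IsPullback act (snd G (PO f Ψ c₀)) (πO f Ψ c₀) (πO f Ψ c₀) :=
    Groth.Agent.Helper19.QStkK.cart_of_local (QuotSh.J K S) hR (F₀ f Ψ c₀) act h_π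
      (fun b hb => (Ψ.obj ⟨b, hb⟩).act.act)
      (fun b hb => cart_norm (Ψ.obj ⟨b, hb⟩) (Ψ.w_obj ⟨b, hb⟩)) (fun b hb => hact ⟨b, hb⟩)
  have h_eqv : act ≫ φ = (G ◁ φ) ≫ aX.act := by
    apply joint_epi (QuotSh.J K S) ((F₀ f Ψ c₀).whisker G) hR
    intro b hb
    change (G ◁ ιO f Ψ c₀ ⟨b, hb⟩) ≫ act ≫ φ = (G ◁ ιO f Ψ c₀ ⟨b, hb⟩) ≫ (G ◁ φ) ≫ aX.act
    rw [← Category.assoc, hact, Category.assoc, hφ, ← MonoidalCategory.whiskerLeft_comp_assoc, hφ,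
      (Ψ.obj ⟨b, hb⟩).eqv]
  have h_loc : NonAbH1.IsLocallyTrivialFor K (Over.mk (πO f Ψ c₀).left : Over T.left) := by
    let E : Precoverage.ZeroHypercover.{u} K T.left :=
      { I₀ := I
        X := fun i => (V i).left
        f := fun i => (f i).left
        mem₀ := hcov }
    have hF := fun i : I => loc_cover (Ψ.obj (aOf f i)) (Ψ.w_obj (aOf f i))
    choose F hF using hF
    refine ⟨(E.bind F).presieve₀, (E.bind F).mem₀, ?_⟩
    rintro Y g ⟨⟨i, k⟩⟩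
    obtain ⟨s, hs⟩ := hF i k
    refine ⟨s ≫ jj f Ψ c₀ (aOf f i), ?_⟩
    change (s ≫ jj f Ψ c₀ (aOf f i)) ≫ c₀.U.hom = (F i).f k ≫ (f i).left
    rw [Category.assoc, (sqj f Ψ c₀ (aOf f i)).w, ← Category.assoc]
    congr 1
  let x : QuotObj K G aX :=
    { base := T
      P := PO f Ψ c₀
      act := { act := act, one_act := h_one, mul_act := h_mul }
      π := πO f Ψ c₀
      cart := h_cart
      loc := h_loc
      φ := φ
      eqv := h_eqv }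
  let lam : ∀ a : (sieveCat (Sieve.ofArrows V f)).obj, Ψ.obj a ⟶ x := fun a =>
    { base := eqToHom (Ψ.w_obj a) ≫ a.obj.hom
      top := ιO f Ψ c₀ a
      eqv := (hact a).symm
      cart := sq_move (Ψ.w_obj a) (sqO f Ψ c₀ a)
      wφ := hφ a }
  refine ⟨x, ⟨{ base := rfl, lam := lam, lift := fun a => ?_, nat := fun {a b} h => ?_ }⟩⟩
  · exact isHomLift_of_base a.obj.hom (lam a) (Ψ.w_obj a) rfl (by simp [lam])
  · apply QuotObj.hom_ext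
    · haveI := isHomLift_map_sieve Ψ h
      obtain ⟨hA, hB, e⟩ := base_eq_of_isHomLift h.hom.left (Ψ.map h)
      change (Ψ.map h).base ≫ eqToHom (Ψ.w_obj b) ≫ b.obj.hom = eqToHom (Ψ.w_obj a) ≫ a.obj.hom
      rw [e]
      simp only [Category.assoc, eqToHom_trans_assoc, eqToHom_refl, Category.id_comp]
      rw [Over.w h.hom]
    · exact ιO_nat f Ψ c₀ h

end Groth.Agent.Helper19.QStkK
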